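import Cfsg.Agent.Lib.Chev.Tab.E6b
import Cfsg.Agent.Lib.Chev.Checks3

/-! Third batch of kernel checks of the tables of type E6. -/

set_option autoImplicit false
set_option maxRecDepth 1000000

namespace Cfsg.Agent.Lib.Chev.TabE6

open Cfsg Cfsg.Lie

/-- a word for the longest element -/
def w0 : List ℕ := [0, 2, 3, 4, 5, 1, 3, 4, 2, 3, 0, 2, 1, 3, 4, 5, 1, 3, 4, 2, 3, 0, 2, 1, 3, 4, 2, 3, 0, 2, 1, 3, 0, 2, 1, 0]
/-- a walk through the diagram -/
def walk : List ℕ := [0, 2, 3, 1, 3, 4, 5, 4, 3, 2, 0]
/-- root coefficients -/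
def rcB : ℕ := 0x8182838282818182838281818182828281818181828281818081828281818182828181818181828181818081828181818181818181818081818181818080818181818181818180818081818180818080818180818080808180818080808080818182828181808181828181808081828181808181818181808081818181808080818181808181818081808081818081808080818081808080808081808181818180808081818180808080818180808080808180808181818080808081818080808080818080808181808080808081808080808180808080807f8080808080807f808080807f7f8080808080807f808080807f7f8080807f7f7f8080808080807f808080807f7f8080807f7f7f80807f7f7f7f8080808080807f8080807f807f80807f7f807f807f7f7f807f8080807f7f7f80807f7f7f7f807f7f7f7f7f80807f7e7f7f807f7f7e7f7f807f7e7e7f7f8080808080807f8080807f807f80807f7f807f807f7f7f807f7f7f7f7f807f80807f7f7f7f807f7f7f7f7f7f7f7f7f7f7f807f7e7f7f7f7f7f7e7f7f7f7f7e7e7f7f7f807f7e7e7f7f7f7f7e7e7f7f7f7e7e7e7f7f7f7e7d7e7f7f7f7e7d7e7e7f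
/-- root coefficients -/
def rc (r k : ℕ) : ℤ :=
  if Nat.blt r 72 && Nat.blt k 6 then Int.subNatNat (cell rcB (8 * (6 * r + k)) 255) 128 else 0

theorem d3_a : chk3a fd.tbl chevE6.simple W S = true := by decide +kernel
theorem d3_b : chk3b fd.tbl W w0 = true := by decide +kernel
theorem d3_c : chk3c fd.tbl chevE6.simple W walk = true := by decide +kernel
theorem d3_d : chk3d fd.tbl chevE6.simple W = true := by decide +kernel
theorem d3_e : chk3e chevE6.chain.toList fd.tbl rc = true := by decide +kernel
theorem d3_f : chk3f fd.tbl rc = true := by decide +kernel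
theorem d3_g : chk3g fd.tbl rc = true := by decide +kernel
theorem d3_h : chk3h fd.tbl W rc = true := by decide +kernel

/-- The third batch of table facts of type E6. -/
def good3 : Good3 chevE6 where
  __ := good2
  w0 := w0
  walk := walk
  rc := rc
  a3 := tbl_eq ▸ d3_a
  b3 := tbl_eq ▸ d3_b
  c3 := tbl_eq ▸ d3_c
  d3 := tbl_eq ▸ d3_d
  e3 := tbl_eq ▸ d3_e
  f3 := tbl_eq ▸ d3_f
  g3 := tbl_eq ▸ d3_g
  h3 := tbl_eq ▸ d3_h

end Cfsg.Agent.Lib.Chev.TabE6
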