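import Cfsg.Agent.Lib.Chev.Tab.B2c
import Cfsg.Agent.Lib.Chev.Checks4

/-! Fourth batch of kernel checks of the tables of type B2. -/

set_option autoImplicit false
set_option maxRecDepth 1000000

namespace Cfsg.Agent.Lib.Chev.TabB2

open Cfsg Cfsg.Lie

/-- The Coxeter matrix -/
def cmL : List (List ℕ) := [[1, 4], [4, 1]]
/-- The Coxeter matrix -/
def cm (i j : ℕ) : ℕ := (cmL.getD i []).getD j 1
/-- levels -/
def levB0 : ℕ := 0xff0001ffff0203ff
/-- levels -/
def lev0 (r : ℕ) : ℕ := cell levB0 (8 * r) 255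
/-- levels -/
def levB1 : ℕ := 0xffff00ffff01ffff
/-- levels -/
def lev1 (r : ℕ) : ℕ := cell levB1 (8 * r) 255

/-- The chain of stabilisers -/
def cdata : List (ℕ × (ℕ → ℕ)) := [(6, lev0), (5, lev1)]

theorem d4_a : chk4a fd.tbl W cm = true := by decide +kernel
theorem d4_b : chk4b fd.tbl W 4 = true := by decide +kernel
theorem d4_c : chk4chain fd.tbl W (List.range chevB2.rank) cdata = true := by decide +kernel

/-- The fourth batch of table facts of type B2. -/
def good4 : Good4 chevB2 where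
  __ := good3
  cm := cm
  hc := 4
  cdata := cdata
  a4 := tbl_eq ▸ d4_a
  b4 := tbl_eq ▸ d4_b
  c4 := tbl_eq ▸ d4_c

end Cfsg.Agent.Lib.Chev.TabB2
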