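import Cfsg.Agent.Lib.Chev.Tab.E7c
import Cfsg.Agent.Lib.Chev.Checks4

/-! Fourth batch of kernel checks of the tables of type E7. -/

set_option autoImplicit false
set_option maxRecDepth 1000000

namespace Cfsg.Agent.Lib.Chev.TabE7

open Cfsg Cfsg.Lie

/-- The Coxeter matrix -/
def cmL : List (List ℕ) := [[1, 2, 3, 2, 2, 2, 2], [2, 1, 2, 3, 2, 2, 2], [3, 2, 1, 3, 2, 2, 2], [2, 3, 3, 1, 3, 2, 2], [2, 2, 2, 3, 1, 3, 2], [2, 2, 2, 2, 3, 1, 3], [2, 2, 2, 2, 2, 3, 1]]
/-- The Coxeter matrix -/
def cm (i j : ℕ) : ℕ := (cmL.getD i []).getD j 1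
/-- levels -/
def levB0 : ℕ := 0x102030405060405060706070808090a070809090a0b0a0b0c0d0b0c0d0e0f1008090a0a0b0c0b0c0d0e0c0d0e0f100c0d0e0f100d0e0f100e0f100f10101111121112131112131411121314151112131415131415161516171718191112131415161415161716171818191a171819191a1b1a1b1c1d1b1c1d1e1f2021
/-- levels -/
def lev0 (r : ℕ) : ℕ := cell levB0 (8 * r) 255
/-- levels -/
def levB1 : ℕ := 0xffffffffffffffffffffffffffffffffffffffffffffffffffffffffffffffffff00010202030403040506040506070804050607080506070806070807080809090a090a0b090a0b0c090a0b0c0d090a0b0c0d0b0c0d0e0d0e0f0f1011ffffffffffffffffffffffffffffffffffffffffffffffffffffffffffffffffff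
/-- levels -/
def lev1 (r : ℕ) : ℕ := cell levB1 (8 * r) 255
/-- levels -/
def levB2 : ℕ := 0xffffffffffffffffffffffffffffffffffffffffffffffffffffffffffffffffffffffffffff00ffff0102ffff020304ffff020304ffff0304ffff04ffffffffffff05ffff0506ffff050607ffff050607ffff0708ffff09ffffffffffffffffffffffffffffffffffffffffffffffffffffffffffffffffffffffffffff
/-- levels -/
def lev2 (r : ℕ) : ℕ := cell levB2 (8 * r) 255
/-- levels -/
def levB3 : ℕ := 0xffffffffffffffffffffffffffffffffffffffffffffffffffffffffffffffffffffffffffffffffffffffffffffff00ffffffffffffffffffffffffffffffffffffffffffffffffffffffffffff01ffffffffffffffffffffffffffffffffffffffffffffffffffffffffffffffffffffffffffffffffffffffffffffff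
/-- levels -/
def lev3 (r : ℕ) : ℕ := cell levB3 (8 * r) 255
/-- levels -/
def levB4 : ℕ := 0xffffffffffffffffffffffffffffffffffffffffffffffffffffffffffffffffffffffffffffffffffffffffffffffffffffffff00ffffffffffffffffffffffffffffffffffffffff01ffffffffffffffffffffffffffffffffffffffffffffffffffffffffffffffffffffffffffffffffffffffffffffffffffffffff
/-- levels -/
def lev4 (r : ℕ) : ℕ := cell levB4 (8 * r) 255
/-- levels -/
def levB5 : ℕ := 0xffffffffffffffffffffffffffffffffffffffffffffffffffffffffffffffffffffffffffffffffffffffffffffffffffffffffffffffffffffff00ffffffffffff01ffffffffffffffffffffffffffffffffffffffffffffffffffffffffffffffffffffffffffffffffffffffffffffffffffffffffffffffffffffff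
/-- levels -/
def lev5 (r : ℕ) : ℕ := cell levB5 (8 * r) 255
/-- levels -/
def levB6 : ℕ := 0xffffffffffffffffffffffffffffffffffffffffffffffffffffffffffffffffffffffffffffffffffffffffffffffffffffffffffffffffffffffffffff0001ffffffffffffffffffffffffffffffffffffffffffffffffffffffffffffffffffffffffffffffffffffffffffffffffffffffffffffffffffffffffffff
/-- levels -/
def lev6 (r : ℕ) : ℕ := cell levB6 (8 * r) 255

/-- The chain of stabilisers -/
def cdata : List (ℕ × (ℕ → ℕ)) := [(125, lev0), (92, lev1), (87, lev2), (78, lev3), (73, lev4), (66, lev5), (63, lev6)]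

theorem d4_a : chk4a fd.tbl W cm = true := by decide +kernel
theorem d4_b : chk4b fd.tbl W 18 = true := by decide +kernel
theorem d4_c : chk4chain fd.tbl W (List.range chevE7.rank) cdata = true := by decide +kernel

/-- The fourth batch of table facts of type E7. -/
def good4 : Good4 chevE7 where
  __ := good3
  cm := cm
  hc := 18
  cdata := cdata
  a4 := tbl_eq ▸ d4_a
  b4 := tbl_eq ▸ d4_b
  c4 := tbl_eq ▸ d4_c

end Cfsg.Agent.Lib.Chev.TabE7
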