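import Cfsg.Agent.Lib.Chev.Tab.D4
import Cfsg.Agent.Lib.Chev.GraphAut

/-! Symmetry data of the tables of type D4. -/

set_option autoImplicit false
set_option maxRecDepth 1000000

namespace Cfsg.Agent.Lib.Chev.TabD4

open Cfsg Cfsg.Lie

/-- nodes -/
def gRi : List ℕ := [2, 1, 3, 0]
/-- nodes, inverse -/
def gRi' : List ℕ := [3, 1, 0, 2]
/-- roots -/
def gR : List ℕ := [0, 1, 6, 2, 7, 10, 3, 8, 4, 9, 11, 5, 18, 12, 14, 19, 15, 20, 13, 16, 21, 17, 22, 23]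
/-- roots, inverse -/
def gR' : List ℕ := [0, 1, 3, 6, 8, 11, 2, 4, 7, 9, 5, 10, 13, 18, 14, 16, 19, 21, 12, 15, 17, 20, 22, 23]
/-- signs -/
def gE : List ℤ := [1, 1, -1, 1, -1, 1, -1, 1, -1, 1, 1, 1, 1, 1, 1, -1, 1, -1, 1, -1, 1, -1, 1, 1]

theorem g_chk : chkG fd.tbl (fun i => gRi.getD i 0) (fun i => gR.getD i 0) (fun i => gRi'.getD i 0)
    (fun i => gR'.getD i 0) (fun i => gE.getD i 0) 1 = true := by decide +kernel

/-- The symmetry data. -/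
def graph : GraphData chevD4 :=
  GraphData.ofChk _ _ _ _ _ _ _ (tbl_eq ▸ g_chk)

/-- nodes -/
def gRi2 : List ℕ := [3, 1, 0, 2]
/-- nodes, inverse -/
def gRi'2 : List ℕ := [2, 1, 3, 0]
/-- roots -/
def gR2 : List ℕ := [0, 1, 3, 6, 8, 11, 2, 4, 7, 9, 5, 10, 13, 18, 14, 16, 19, 21, 12, 15, 17, 20, 22, 23]
/-- roots, inverse -/
def gR'2 : List ℕ := [0, 1, 6, 2, 7, 10, 3, 8, 4, 9, 11, 5, 18, 12, 14, 19, 15, 20, 13, 16, 21, 17, 22, 23]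
/-- signs -/
def gE2 : List ℤ := [1, 1, 1, -1, -1, 1, -1, -1, 1, 1, 1, 1, 1, 1, 1, 1, -1, -1, 1, -1, -1, 1, 1, 1]

theorem g_chk2 : chkG fd.tbl (fun i => gRi2.getD i 0) (fun i => gR2.getD i 0) (fun i => gRi'2.getD i 0)
    (fun i => gR'2.getD i 0) (fun i => gE2.getD i 0) 1 = true := by decide +kernel

/-- The symmetry data. -/
def graph2 : GraphData chevD4 :=
  GraphData.ofChk _ _ _ _ _ _ _ (tbl_eq ▸ g_chk2)

end Cfsg.Agent.Lib.Chev.TabD4
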