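import Cfsg.Agent.Lib.Chev.Tab.B2e
import Cfsg.Agent.Lib.Chev.Exc

/-! Exceptional automorphism data of the tables of type B2. -/

set_option autoImplicit false
set_option maxRecDepth 1000000

namespace Cfsg.Agent.Lib.Chev.TabB2

open Cfsg Cfsg.Lie

/-- the permutation -/
def excR : List ℕ := [1, 0, 3, 2, 5, 4, 7, 6]
/-- the exponents -/
def excL : List ℕ := [1, 2, 2, 1, 1, 2, 2, 1]

theorem x_chk : chkE fd.tbl 2 (fun r => excR.getD r 0) (fun r => excL.getD r 1) = true := by decide +kernel

/-- The exceptional data. -/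
def exc : ExcData chevB2 2 where
  ρ := fun r => excR.getD r 0
  lam := fun r => excL.getD r 1
  chk := tbl_eq ▸ x_chk

end Cfsg.Agent.Lib.Chev.TabB2
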