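import Cfsg.Agent.Lib.Chev.Tab.F4e
import Cfsg.Agent.Lib.Chev.Exc

/-! Exceptional automorphism data of the tables of type F4. -/

set_option autoImplicit false
set_option maxRecDepth 1000000

namespace Cfsg.Agent.Lib.Chev.TabF4

open Cfsg Cfsg.Lie

/-- the permutation -/
def excR : List ℕ := [3, 7, 8, 0, 9, 11, 18, 1, 2, 4, 15, 5, 16, 21, 23, 10, 12, 19, 6, 17, 22, 13, 20, 14, 33, 27, 34, 25, 30, 41, 28, 35, 37, 24, 26, 31, 42, 32, 43, 45, 46, 29, 36, 38, 47, 39, 40, 44]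
/-- the exponents -/
def excL : List ℕ := [1, 1, 1, 2, 1, 1, 1, 2, 2, 2, 2, 2, 2, 2, 2, 1, 1, 1, 2, 2, 2, 1, 1, 1, 1, 1, 1, 2, 2, 2, 1, 1, 1, 2, 2, 2, 2, 2, 2, 2, 2, 1, 1, 1, 2, 1, 1, 1]

theorem x_chk : chkE fd.tbl 2 (fun r => excR.getD r 0) (fun r => excL.getD r 1) = true := by decide +kernel

/-- The exceptional data. -/
def exc : ExcData chevF4 2 where
  ρ := fun r => excR.getD r 0
  lam := fun r => excL.getD r 1
  chk := tbl_eq ▸ x_chk

end Cfsg.Agent.Lib.Chev.TabF4
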