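import Cfsg.Agent.Lib.Chev.Tab.B2d
import Cfsg.Agent.Lib.Chev.Checks5

/-! Fifth batch of kernel checks of the tables of type B2. -/

set_option autoImplicit false
set_option maxRecDepth 1000000

namespace Cfsg.Agent.Lib.Chev.TabB2

open Cfsg Cfsg.Lie

/-- A way of writing fundamental roots in commutators. -/
def pickL : List (ℕ × ℕ × ℕ) := [(1, 7, 0), (0, 6, 0), (2, 7, 1), (1, 7, 1)]
/-- A way of writing fundamental roots in commutators. -/
def pick (i e : ℕ) : ℕ × ℕ × ℕ := pickL.getD (2 * i + e) (0, 0, 0)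

theorem e5_inv : chkG fd.tbl (fun i => i) fd.tbl.neg (fun i => i) fd.tbl.neg (fun _ => -1) (-1) = true := by decide +kernel
theorem e5_a : chk5a fd.tbl = true := by decide +kernel
theorem e5_b : chk5b fd.tbl chevB2.simple W cm = true := by decide +kernel
theorem e5_c : chk5c fd.tbl chevB2.simple pick = true := by decide +kernel

/-- The Chevalley involution. -/
def invData : GraphData chevB2 :=
  GraphData.ofChk _ (fun i => i) (tblOf chevB2).neg (fun i => i) (tblOf chevB2).neg (fun _ => -1) (-1) (tbl_eq ▸ e5_inv)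

/-- The fifth batch of table facts of type B2. -/
def good5 : Good5 chevB2 where
  __ := good4
  inv := invData
  inv_ρ := fun _ _ => rfl
  inv_ε := fun _ _ => rfl
  a5 := tbl_eq ▸ e5_a
  b5 := tbl_eq ▸ e5_b
  pick := pick
  c5 := tbl_eq ▸ e5_c

end Cfsg.Agent.Lib.Chev.TabB2
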