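import Cfsg.Agent.Lib.Chev.Fast
import Cfsg.Prelude.Def_ChevD4

/-! Big-number tables for the datum of type D4. -/

set_option autoImplicit false

namespace Cfsg.Agent.Lib.Chev.TabD4

open Cfsg Cfsg.Lie

/-- big-number tables -/
def fd : Fd where
  l := 4
  n := 24
  w := 12
  ch := 0x1771691591470001291171070f90000000000000000000000000000001870000001671570000000001371290000e90d90000a90000000000000000000000001890000001770001470000001370001190e90000000c90970000000000000000000001890000001770001470000001370000001090d90000000b90870000000000000000001870000000001671570000001370000000000f90000c90b90000790000000000000000001771671571470000000000000000000000000000a90990890790000000000000001891790000000000000000001171070000e90d90000000000000000670570000000001870001690000000000000001270000f70e90000000c90000000000670000490000001870000001590000000000001270000f70000d90000000b90000000670000000390001890000000001490000000000001171070000000000c90b90000000670000000000270000000001791690000000001291190000000000000000000a70970000000000570470000000001790001590000001290001090000000000000000a70000870000000570000370000001690001490000001190000f90000000000000000970000770000000470000270000000001591490000000001090f90000000000000000000870770000000000370270000000001790000000001390000000e70d70000000000990890000000000000570000000000170001670000001390000000e70000000c70000a90000790000000000000470000000190000001570001390000000000d70000000b70a90000790000000000000000370000190000000001491390000000000000000c70b70000990890000000000000000000270170000000000000001271171070f70000000000000000000000000000590490390290000000000000000001270000e70d70000a70000000000690000000490390000000000190000000000000000001190e70000000c70970000000690000000590000290000000170000000000000000000001090d70000000b70870000690000000590000290000000170000000000000000000000000f70000c70b70000770690000000000490390000000190000000000000000000000000000000a7099089077000059047037029000000000000000000000000000000000000000000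
  car := 0x80817f817f80817f817f80827e80817f817f80817f817f808081817f7f8081817f7f8280807e81817f7f8081817f7f80817f8080817f808181827f7f81817e7f7f80817f8080817f8081818181827f7f7f7f80808080818181817e7f7f7f7f80
  cor := 0x8181828181818181808181818180818180808181808080818181818080818180818081808080818080818080818080807f808080807f808080807f807f807f80807f7f807f7f7f808080807f80807f7f7f807f7f807f7f7f7f7f7f7f7f7f7e7f

/-- reflection and sign table -/
def ws : ℕ := 0xbc542d130a04a20118703c1b0b8602811090341c0a038200604000bc5226160a84a1f0e08842140c05c340e0684c200a0200c1206008b05c2a148904c220d06426210f8441e1c0b0501809050180801010b844200f074162d158a44c1a0c0582a09038140624090401c0c00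

/-- reflection -/
def W (i x : ℕ) : ℕ := wF ws 24 i x
/-- sign -/
def S (i x : ℕ) : ℤ := sF ws 24 i x
/-- the dominant roots -/
def dom : List ℕ := [23]
/-- the fundamental roots -/
def simple (i : ℕ) : ℕ := [18, 14, 13, 12].getD i 0

end Cfsg.Agent.Lib.Chev.TabD4
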