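import Cfsg.Agent.Lib.Chev.Tab.E6
import Cfsg.Agent.Lib.Chev.GraphAut

/-! Symmetry data of the tables of type E6. -/

set_option autoImplicit false
set_option maxRecDepth 1000000

namespace Cfsg.Agent.Lib.Chev.TabE6

open Cfsg Cfsg.Lie

/-- nodes -/
def gRi : List ℕ := [5, 1, 4, 3, 2, 0]
/-- nodes, inverse -/
def gRi' : List ℕ := [5, 1, 4, 3, 2, 0]
/-- roots -/
def gR : List ℕ := [0, 1, 2, 5, 16, 3, 6, 17, 8, 19, 22, 11, 26, 30, 33, 35, 4, 7, 18, 9, 20, 23, 10, 21, 24, 25, 12, 27, 31, 34, 13, 28, 32, 14, 29, 15, 56, 42, 57, 39, 43, 58, 37, 40, 44, 59, 46, 47, 50, 61, 48, 51, 62, 53, 64, 67, 36, 38, 41, 45, 60, 49, 52, 63, 54, 65, 68, 55, 66, 69, 70, 71]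
/-- roots, inverse -/
def gR' : List ℕ := [0, 1, 2, 5, 16, 3, 6, 17, 8, 19, 22, 11, 26, 30, 33, 35, 4, 7, 18, 9, 20, 23, 10, 21, 24, 25, 12, 27, 31, 34, 13, 28, 32, 14, 29, 15, 56, 42, 57, 39, 43, 58, 37, 40, 44, 59, 46, 47, 50, 61, 48, 51, 62, 53, 64, 67, 36, 38, 41, 45, 60, 49, 52, 63, 54, 65, 68, 55, 66, 69, 70, 71]
/-- signs -/
def gE : List ℤ := [1, 1, 1, 1, -1, 1, 1, -1, 1, -1, -1, 1, -1, 1, -1, 1, -1, -1, 1, -1, 1, 1, -1, 1, 1, 1, -1, 1, -1, 1, 1, -1, 1, -1, 1, 1, 1, 1, -1, 1, -1, 1, 1, -1, 1, -1, 1, 1, 1, -1, 1, 1, -1, 1, -1, -1, 1, -1, 1, -1, 1, -1, -1, 1, -1, 1, 1, -1, 1, 1, 1, 1]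

theorem g_chk : chkG fd.tbl (fun i => gRi.getD i 0) (fun i => gR.getD i 0) (fun i => gRi'.getD i 0)
    (fun i => gR'.getD i 0) (fun i => gE.getD i 0) 1 = true := by decide +kernel

/-- The symmetry data. -/
def graph : GraphData chevE6 :=
  GraphData.ofChk _ _ _ _ _ _ _ (tbl_eq ▸ g_chk)

end Cfsg.Agent.Lib.Chev.TabE6
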