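import Cfsg.Agent.Lib.Chev.Fast
import Cfsg.Prelude.Def_ChevG2

/-! Big-number tables for the datum of type G2. -/

set_option autoImplicit false

namespace Cfsg.Agent.Lib.Chev.TabG2

open Cfsg Cfsg.Lie

/-- big-number tables -/
def fd : Fd where
  l := 2
  n := 12
  w := 36
  ch := 0xb70000000000000000a70000000990000000790000000000000000000000000000000000000000000000000000000000000c70000000000000000a70000000000000000890000000000000000690000000000000000000000000000000000c50000000b50000000000000000000000c509a0000bb0860000000000c70990590b90870490000000000000000000000000cb0000000000000cb0aa0000000000c70a708700000007b0000000000000750560000000000790590370000000000000000000000000bb0000b50a60000000000b90a909700000000000000000000000006b00006b04a0670470370000000000000000000000000c90000000000000000000000000990000000000000000000000000000000000570000000000000000000000000270000000b90000000000000000000000000890000000000000000000000000000000000470000000000000000000000000170000000000000000000790970a900007b09600000007500000000000000000002703904900000000000002503a0000000250000000000000000000670890a900000000000006508a00000000000000006501903705900000000000001b03600000000000000001500000000000000000002705709701904908700000000000002b05a00001504600000000000000000000000002b00000001b000000000000000000000000000000000077000000000000000057000000000000000039000000000000000019000000000000000000000000000000000000000000000000000000000000067000000047000000039000000000000000029000000000000000000000000000000000000000000000000000000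
  car := 0x817f80817f827e817f80817f8083817f827d837e817f7d80
  cor := 0x8281818183828381808181807f80807f7d7f7d7e7f7f7e7f

/-- reflection and sign table -/
def ws : ℕ := 0x8502c1307044160c0382008010105c1a10098202803070140e0a00

/-- reflection -/
def W (i x : ℕ) : ℕ := wF ws 12 i x
/-- sign -/
def S (i x : ℕ) : ℤ := sF ws 12 i x
/-- the dominant roots -/
def dom : List ℕ := [9, 11]
/-- the fundamental roots -/
def simple (i : ℕ) : ℕ := [7, 6].getD i 0

end Cfsg.Agent.Lib.Chev.TabG2
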